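import Groth.Agent.ShStabLib.Apply
import Groth.Agent.Ref1X.Generic
import Groth.Agent.CurveCohLib.Proper
import Groth.Agent.Lib.CurveBundle
import Groth.Agent.ASB.Hom

/-!
# Morphisms of slope stable modules
-/

set_option linter.style.haveILetI false
set_option linter.unusedSectionVars false
set_option backward.isDefEq.respectTransparency false
set_option backward.isDefEq.respectTransparency.types false

universe u

open CategoryTheory CategoryTheory.Limits AlgebraicGeometry Polynomial StabCat

noncomputable section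

namespace Groth.Agent.StabHom

open Groth.Agent Groth.Agent.ShStabLib Groth.Agent.HilbPoly

variable {X : Scheme.{u}}

theorem alpha_sum {P Q R : ℚ[X]} {d : ℕ} (h : R = P + Q) :
    alpha d R = alpha d P + alpha d Q ∧ alpha (d - 1) R = alpha (d - 1) P + alpha (d - 1) Q := by
  subst h
  exact ⟨alpha_add _ _ _, alpha_add _ _ _⟩

theorem false_of_slopes {P Q R : ℚ[X]} {d : ℕ} (e1 : alpha d R = alpha d P + alpha d Q)
    (e2 : alpha (d - 1) R = alpha (d - 1) P + alpha (d - 1) Q) (hP : 0 < alpha d P) (hQ : 0 < alpha d Q)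
    (h1 : hatSlope d P < hatSlope d R) (h2 : hatSlope d Q < hatSlope d R) : False := by
  rw [hatSlope, hatSlope, div_lt_div_iff₀ hP (by linarith)] at h1
  rw [hatSlope, hatSlope, div_lt_div_iff₀ hQ (by linarith)] at h2
  rw [e1, e2] at h1 h2
  linarith

/-- A reflexive module on an integral scheme is pure of the dimension of the scheme. -/
theorem isPure_of_isReflexive [IsIntegral X] [IsLocallyNoetherian X] {F : X.Modules} (hF : Coh.IsCoh F)
    (hr : RefHull.IsReflexive F) {d : ℕ} (hX : topologicalKrullDim X = (d : WithBot ℕ∞)) : ShStab.IsPure X F d := by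
  intro G ι hι hG h0
  haveI := hι
  have hu : CohB1.support G = Set.univ := by
    obtain ⟨x, hx⟩ : ∃ x, ¬ Subsingleton (G.presheaf.stalk x) := by
      by_contra hc
      push Not at hc
      exact h0 (CurveCohLib.isZero_of_subsingleton_stalks hc)
    refine Set.eq_univ_of_forall fun y hy => ?_
    letI : Field (X.presheaf.stalk (genericPoint X)) := inferInstanceAs (Field X.functionField)
    refine hx ⟨fun a b => CurveBundle.stalkMap_injective ι x (Ref1X.gsp_injective hF hr x ?_)⟩
    have e : ∀ c, Ref1X.gsp F x (Algz.stalkMapₗ ι x c) =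
        RefHull.stalkMapₗ ι (genericPoint X) (Ref1X.gsp G x c) := fun c => Ref1X.sp_stalkMap ι (Ref1X.eta_le x) c
    rw [e, e]
    congr 1
    have hz : ∀ v : G.presheaf.stalk (genericPoint X), v = 0 := fun v => by
      haveI := hy
      obtain ⟨r, hr0, m, hm⟩ := Ref1X.exists_smul_eq_gsp hG.1 y v
      rw [Subsingleton.elim m 0, map_zero] at hm
      exact (smul_eq_zero.1 hm).resolve_left fun h => hr0 (Ref1X.spR_injective y (h.trans (map_zero _).symm))
    rw [hz (Ref1X.gsp G x a), hz (Ref1X.gsp G x b)]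
  rw [hu, ← hX]
  exact IsHomeomorph.topologicalKrullDim_eq _ (Homeomorph.Set.univ X).isHomeomorph

variable {k : Type u} [Field k] [X.Over (Spec (CommRingCat.of k))]
  [IsProper (X ↘ Spec (CommRingCat.of k))] {L : X.Modules} {d : ℕ}

theorem hp_add' (hL : CohB1.IsAmple L) {K F I : X.Modules} (a : K ⟶ F) (p : F ⟶ I) (w : a ≫ p = 0)
    (hse : (ShortComplex.mk a p w).ShortExact) (hK : Coh.IsCoh K) (hF : Tame d F) (hI : Coh.IsCoh I) :
    hp k L F = hp k L K + hp k L I :=
  @hp_add X k _ _ _ L d hL (ShortComplex.mk a p w) hse hK hF hI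

/-- A nonzero endomorphism of a pure slope stable module is injective. -/
theorem mono_of_ne_zero (hL : CohB1.IsAmple L) {F : X.Modules} (hpF : ShStab.IsPure X F d)
    (hF : ShStab.IsMuStable k X L F d) (φ : F ⟶ F) (hφ : φ ≠ 0) : Mono φ := by
  obtain ⟨hFc, -, -, -, hst⟩ := hF
  obtain ⟨K, I, a, p, b, w, hfac, ha, hb, hp', hse, hK, hI⟩ := exists_factor (k := k) hFc hFc φ
  haveI := ha; haveI := hb; haveI := hp'
  have hTF : Tame d F := tame_of_pure hpF hFc
  have hI0 : ¬ IsZero I := fun hz => hφ (by rw [← hfac, hz.eq_of_tgt p 0, Limits.zero_comp])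
  by_cases hK0 : IsZero K
  · haveI : Mono p := hse.exact.mono_g (hK0.eq_of_src _ _)
    rw [← hfac]; infer_instance
  exfalso
  have hαK := hp_alpha_pos (k := k) hL hK (isPure_mono hpF a) hK0
  have hαI := hp_alpha_pos (k := k) hL hI (isPure_mono hpF b) hI0
  have hsum : hp k L F = hp k L K + hp k L I := hp_add' hL a p w hse hK hTF hI
  obtain ⟨e1, e2⟩ := alpha_sum (d := d) hsum
  refine false_of_slopes e1 e2 hαK hαI ?_ ?_
  · exact hst K a ha hK _ _ (hp_spec hL (hTF.of_mono hK a)) (hp_spec hL hTF) hαK ((lt_add_of_pos_right _ hαI).trans_eq e1.symm)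
  · exact hst I b hb hI _ _ (hp_spec hL (hTF.of_mono hI b)) (hp_spec hL hTF) hαI ((lt_add_of_pos_left _ hαK).trans_eq e1.symm)

/-- Endomorphisms of a pure slope stable module over an algebraically closed field are scalars. -/
theorem exists_scalar [IsAlgClosed k] (hL : CohB1.IsAmple L) {F : X.Modules} (hpF : ShStab.IsPure X F d)
    (hF : ShStab.IsMuStable k X L F d) (φ : F ⟶ F) : ∃ c : k, φ = c • 𝟙 F := by
  haveI := ASB.finite_hom (k := k) X hF.1 hF.1
  haveI : Nontrivial (End F) := ⟨⟨(0 : F ⟶ F), 𝟙 F, fun h => hF.2.1 ((IsZero.iff_id_eq_zero _).2 h.symm)⟩⟩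
  haveI : NoZeroDivisors (End F) := ⟨fun {f g} h => or_iff_not_imp_right.2 fun hg => by
    by_contra hf
    haveI := mono_of_ne_zero hL hpF hF f hf
    exact hg ((cancel_mono (show F ⟶ F from f)).1 (h.trans Limits.zero_comp.symm))⟩
  haveI : IsDomain (End F) := NoZeroDivisors.to_isDomain _
  haveI : FiniteDimensional k (End F) := inferInstanceAs (FiniteDimensional k (F ⟶ F))
  obtain ⟨c, hc⟩ := (IsAlgClosed.algebraMap_bijective_of_isIntegral (k := k) (K := End F)).2 (show End F from φ)
  exact ⟨c, hc.symm.trans (Algebra.algebraMap_eq_smul_one c)⟩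

end Groth.Agent.StabHom
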