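import Groth.Agent.StabHom.Basic
import Groth.Agent.Ref1X.Sections
import Groth.Agent.VarDim.Top
import Groth.Agent.NmpFinite.Basic
import Groth.Agent.EtNorm.Dedekind
import Groth.Agent.QCoh.SupportFT
import Groth.Agent.LC.ConnDim

/-!
# Morphisms between slope stable reflexive modules
-/

set_option linter.style.haveILetI false
set_option linter.unusedSectionVars false
set_option backward.isDefEq.respectTransparency false
set_option backward.isDefEq.respectTransparency.types false

universe u

open CategoryTheory CategoryTheory.Limits AlgebraicGeometry Polynomial StabCat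

noncomputable section

namespace Groth.Agent.StabHom

open Groth.Agent Groth.Agent.ShStabLib Groth.Agent.HilbPoly

theorem le_of_lt_succ' {x : WithBot ℕ∞} {e : ℕ} (h : x < ((e + 1 : ℕ) : WithBot ℕ∞)) : x ≤ (e : WithBot ℕ∞) := by
  cases x using WithBot.recBotCoe with
  | bot => exact bot_le
  | coe a =>
    cases a using ENat.recTopCoe with
    | top => exact absurd h (by exact_mod_cast not_top_lt)
    | coe n => exact_mod_cast Nat.le_of_lt_succ (by exact_mod_cast h : n < e + 1)

theorem hatSlope_le_of_sum {P Q R : ℚ[X]} {d : ℕ} (e1 : alpha d R = alpha d P + alpha d Q)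
    (e2 : alpha (d - 1) R = alpha (d - 1) P + alpha (d - 1) Q) (hP : 0 < alpha d P) (hQ : alpha d Q = 0)
    (hQ' : 0 ≤ alpha (d - 1) Q) :
    hatSlope d P ≤ hatSlope d R ∧ (hatSlope d R ≤ hatSlope d P → alpha (d - 1) Q = 0) := by
  rw [hatSlope, hatSlope, e1, e2, hQ, add_zero]
  refine ⟨(div_le_div_iff_of_pos_right hP).2 (by linarith), fun h => ?_⟩
  have := (div_le_div_iff_of_pos_right hP).1 h
  linarith

theorem hatSlope_lt_of_sum {P Q R : ℚ[X]} {d : ℕ} (e1 : alpha d R = alpha d P + alpha d Q)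
    (e2 : alpha (d - 1) R = alpha (d - 1) P + alpha (d - 1) Q) (hP : 0 < alpha d P) (hQ : 0 < alpha d Q)
    (h1 : hatSlope d P < hatSlope d R) : hatSlope d R < hatSlope d Q := by
  rw [hatSlope, hatSlope, div_lt_div_iff₀ hP (by linarith)] at h1
  rw [hatSlope, hatSlope, div_lt_div_iff₀ (by linarith) hQ]
  rw [e1, e2] at h1 ⊢
  linarith

variable {X : Scheme.{u}} {k : Type u} [Field k] [X.Over (Spec (CommRingCat.of k))]
  [IsProper (X ↘ Spec (CommRingCat.of k))] {L : X.Modules} {d : ℕ}

/-- Multiplicity zero bounds the dimension. -/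
theorem dim_lt_of_alpha_eq_zero (hL : CohB1.IsAmple L) {Q : X.Modules} (hQ : Tame d Q)
    (h : alpha d (hp k L Q) = 0) : topologicalKrullDim ↥(CohB1.support Q) < (d : WithBot ℕ∞) :=
  lt_of_le_of_ne hQ.dim fun he => (alpha_pos hL hQ.coh he (hp_spec hL hQ)).ne' h

/-- The stalks away from the support of the cokernel. -/
theorem bijective_stalk {F G : X.Modules} (φ : F ⟶ G) [Mono φ] (x : X)
    (hx : x ∉ CohB1.support (cokernel φ)) : Function.Bijective (RefHull.stalkMapₗ φ x) := by
  have hseq : (ShortComplex.mk φ (cokernel.π φ) (cokernel.condition φ)).ShortExact :=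
    { exact := ShortComplex.exact_cokernel φ }
  refine ⟨CurveBundle.stalkMap_injective φ x, fun v => ?_⟩
  haveI : Subsingleton ((cokernel φ).presheaf.stalk x) := by simpa [CohB1.support] using hx
  have h2 := (hseq.map_of_exact (DerSch.stalkFunctor X x)).exact
  rw [ShortComplex.moduleCat_exact_iff] at h2
  exact h2 v (Subsingleton.elim (α := (cokernel φ).presheaf.stalk x) _ _)

/-- An injection of reflexive modules which is bijective outside codimension two is an isomorphism. -/
theorem isIso_of_codim [IsIntegral X] [IsLocallyNoetherian X] (hXn : Pi1.IsNormalScheme X) {F G : X.Modules}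
    (hF : Coh.IsCoh F) (hFr : RefHull.IsReflexive F) (hG : Coh.IsCoh G) (hGr : RefHull.IsReflexive G)
    (φ : F ⟶ G) (hη : Function.Bijective (RefHull.stalkMapₗ φ (genericPoint X)))
    (h1 : ∀ y : X, Order.coheight y = 1 → Function.Bijective (RefHull.stalkMapₗ φ y)) : IsIso φ := by
  obtain ⟨e, he⟩ := Ref1X.exists_iso hXn hG hGr hF hFr (LinearEquiv.ofBijective _ hη) fun y hy v => by
    constructor
    · rintro ⟨m, rfl⟩
      exact ⟨RefHull.stalkMapₗ φ y m, Ref1X.sp_stalkMap φ (Ref1X.eta_le y) m⟩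
    · rintro ⟨m, hm⟩
      obtain ⟨m', rfl⟩ := (h1 y hy).2 m
      exact ⟨m', hη.1 ((Ref1X.sp_stalkMap φ (Ref1X.eta_le y) m').symm.trans hm)⟩
  rw [Ref1X.hom_ext_eta (Ref1X.gsp_injective hG hGr) (φ := φ) (ψ := e.hom) fun v => by rw [he]; rfl]
  infer_instance

/-- A subsheaf of full multiplicity whose slope is maximal is bijective outside codimension two. -/
theorem isIso_of_full [IsIntegral X] (hL : CohB1.IsAmple L) (hXn : Pi1.IsNormalScheme X)
    (hX : topologicalKrullDim X = (d : WithBot ℕ∞)) (hd : 1 ≤ d) {F G : X.Modules}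
    (hF : Coh.IsCoh F) (hFr : RefHull.IsReflexive F) (hG : Coh.IsCoh G) (hGr : RefHull.IsReflexive G)
    (φ : F ⟶ G) [Mono φ] (hQ : Tame d (cokernel φ)) (h0 : alpha d (hp k L (cokernel φ)) = 0)
    (h1 : alpha (d - 1) (hp k L (cokernel φ)) = 0) : IsIso φ := by
  haveI : IsNoetherian X := CurveCohLib.isNoetherian_of_proper (k := k)
  let f := X ↘ Spec (CommRingCat.of k)
  obtain ⟨e, rfl⟩ := Nat.exists_eq_succ_of_ne_zero (Nat.one_le_iff_ne_zero.1 hd)
  have hlt := dim_lt_of_alpha_eq_zero hL hQ h0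
  have hQ' : Tame e (cokernel φ) := ⟨hQ.coh, le_of_lt_succ' hlt⟩
  have hlt' := dim_lt_of_alpha_eq_zero hL hQ' (by simpa using h1)
  have key : ∀ y : X, Order.coheight y ≤ 1 → Function.Bijective (RefHull.stalkMapₗ φ y) := fun y hy => by
    refine bijective_stalk φ y fun hmem => hlt'.not_ge ?_
    have hsub : closure ({y} : Set X) ⊆ CohB1.support (cokernel φ) :=
      (QCoh.isClosed_support_of_ft hQ.coh.2).closure_subset_iff.2 (Set.singleton_subset_iff.2 hmem)
    refine le_trans ?_ (LC.dim_mono hsub)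
    obtain ⟨b, hb, ⟨η, hη, hdeg⟩, -⟩ := VarDim.exists_deg_add_stalk f y
    rw [VarDim.topologicalKrullDim_closure_singleton f]
    rw [ringKrullDim_stalk_eq_coheight] at hb
    have hb1 : b ≤ 1 := by
      have hb' : Order.coheight y = b := by exact_mod_cast hb
      rw [hb'] at hy
      exact_mod_cast hy
    have htot : e + 1 ≤ VarDim.deg f y + b := by
      have h := VarDim.topologicalKrullDim_eq_deg_genericPoint f
      rw [hX] at h
      have h' : e + 1 = VarDim.deg f (genericPoint X) := by exact_mod_cast h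
      rw [h']
      obtain ⟨b', hb', -, hle⟩ := VarDim.exists_deg_add_stalk f y
      rw [ringKrullDim_stalk_eq_coheight, hb] at hb'
      obtain rfl : b' = b := by exact_mod_cast hb'.symm
      exact hle _ (genericPoint_specializes y)
    exact_mod_cast (show e ≤ VarDim.deg f y by omega)
  refine isIso_of_codim hXn hF hFr hG hGr φ (key _ ?_) fun y hy => key y hy.le
  rw [show Order.coheight (genericPoint X) = 0 from Order.coheight_eq_zero.2 fun y _ => genericPoint_specializes y]
  exact zero_le_one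

/-- A nonzero morphism of slope stable reflexive modules towards smaller slope is an isomorphism. -/
theorem isIso_of_ne_zero [IsIntegral X] (hL : CohB1.IsAmple L) (hXn : Pi1.IsNormalScheme X)
    (hX : topologicalKrullDim X = (d : WithBot ℕ∞)) (hd : 1 ≤ d) {F G : X.Modules}
    (hFr : RefHull.IsReflexive F) (hGr : RefHull.IsReflexive G) (hF : ShStab.IsMuStable k X L F d)
    (hG : ShStab.IsMuStable k X L G d) (hle : hatSlope d (hp k L G) ≤ hatSlope d (hp k L F))
    (φ : F ⟶ G) (hφ : φ ≠ 0) : IsIso φ := by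
  haveI : IsNoetherian X := CurveCohLib.isNoetherian_of_proper (k := k)
  obtain ⟨hFc, -, -, -, hstF⟩ := hF
  obtain ⟨hGc, -, -, -, hstG⟩ := hG
  have hpF := isPure_of_isReflexive hFc hFr hX
  have hpG := isPure_of_isReflexive hGc hGr hX
  have hTF : Tame d F := tame_of_pure hpF hFc
  have hTG : Tame d G := tame_of_pure hpG hGc
  have hsub : ∀ (I : X.Modules) (b : I ⟶ G), Mono b → Coh.IsCoh I → ¬ IsZero I →
      hatSlope d (hp k L I) ≤ hatSlope d (hp k L G) ∧
        (hatSlope d (hp k L G) ≤ hatSlope d (hp k L I) → Tame d (cokernel b) ∧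
          alpha d (hp k L (cokernel b)) = 0 ∧ alpha (d - 1) (hp k L (cokernel b)) = 0) := by
    intro I b hb hI hI0
    haveI := hb
    have hQc : Coh.IsCoh (cokernel b) := QCoh.isCoh_cokernel hI.1 hGc b
    have hQ : Tame d (cokernel b) := hTG.of_epi hQc (cokernel.π b)
    obtain ⟨e1, e2⟩ := alpha_sum (d := d) (hp_add' (k := k) hL b (cokernel.π b) (cokernel.condition b)
      { exact := ShortComplex.exact_cokernel b } hI hTG hQc)
    have hαI := hp_alpha_pos (k := k) hL hI (isPure_mono hpG b) hI0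
    rcases (hp_alpha_nonneg (k := k) hL hQ).lt_or_eq with hpos | hzero
    · have h := hstG I b hb hI _ _ (hp_spec hL (hTG.of_mono hI b)) (hp_spec hL hTG) hαI
        ((lt_add_of_pos_right _ hpos).trans_eq e1.symm)
      exact ⟨h.le, fun h' => absurd h' h.not_ge⟩
    · have hQ' : Tame (d - 1) (cokernel b) := by
        obtain ⟨e, rfl⟩ := Nat.exists_eq_succ_of_ne_zero (Nat.one_le_iff_ne_zero.1 hd)
        exact ⟨hQc, le_of_lt_succ' (dim_lt_of_alpha_eq_zero hL hQ hzero.symm)⟩
      obtain ⟨h1, h2⟩ := hatSlope_le_of_sum e1 e2 hαI hzero.symm (hp_alpha_nonneg hL hQ')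
      exact ⟨h1, fun h => ⟨hQ, hzero.symm, h2 h⟩⟩
  obtain ⟨K, I, a, p, b, w, hfac, ha, hb, hp', hse, hK, hI⟩ := exists_factor (k := k) hFc hGc φ
  haveI := ha; haveI := hb; haveI := hp'
  have hI0 : ¬ IsZero I := fun hz => hφ (by rw [← hfac, hz.eq_of_tgt p 0, Limits.zero_comp])
  by_cases hK0 : IsZero K
  · haveI : Mono p := hse.exact.mono_g (hK0.eq_of_src _ _)
    haveI : Mono φ := by rw [← hfac]; infer_instance
    have h0 : ¬ IsZero F := fun hz => hφ (hz.eq_of_src _ _)
    obtain ⟨hQ, h1, h2⟩ := (hsub F φ inferInstance hFc h0).2 hle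
    exact isIso_of_full hL hXn hX hd hFc hFr hGc hGr φ hQ h1 h2
  · exfalso
    obtain ⟨e1, e2⟩ := alpha_sum (d := d) (hp_add' (k := k) hL a p w hse hK hTF hI)
    have hαK := hp_alpha_pos (k := k) hL hK (isPure_mono hpF a) hK0
    have hαI := hp_alpha_pos (k := k) hL hI (isPure_mono hpG b) hI0
    have hlt := hatSlope_lt_of_sum e1 e2 hαK hαI
      (hstF K a ha hK _ _ (hp_spec hL (hTF.of_mono hK a)) (hp_spec hL hTF) hαK
        ((lt_add_of_pos_right _ hαI).trans_eq e1.symm))
    exact absurd ((hsub I b hb hI hI0).1.trans hle) hlt.not_ge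

end Groth.Agent.StabHom
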